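import Groth.Agent.Lib.Helper14.PuncSec.Theta
import Groth.Agent.Lib.Helper14.MoriNagata.ZPrime

/-!
# Elements of the total fraction ring with `m`-primary conductor are integral
-/

set_option autoImplicit false
set_option linter.style.haveILetI false

universe u
open Polynomial IsLocalRing

namespace Groth.Agent.Lib.Helper14.PuncSec

open Groth.Agent.Lib.Helper14.MoriNagata

variable {A : Type u} [CommRing A] [IsReduced A] [IsNoetherianRing A] [IsLocalRing A]

local notation "K" => FractionRing A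
local notation "A'" => integralClosure A (FractionRing A)

theorem algebraMap_A'_injective : Function.Injective (algebraMap A A') := by
  intro a b hab
  have h1 : algebraMap A K a = algebraMap A K b := congrArg Subtype.val hab
  exact IsLocalization.injective K (le_refl (nonZeroDivisors A)) h1

theorem height_cast_lt_two {R : Type*} [CommRing R] (P : Ideal R) [P.IsPrime]
    (h : P.height ≤ 1) (h2 : 2 ≤ ringKrullDim (Localization.AtPrime P)) : False := by
  rw [IsLocalization.AtPrime.ringKrullDim_eq_height P (Localization.AtPrime P)] at h2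
  have h3 : ((2 : ℕ∞) : WithBot ℕ∞) ≤ (P.height : WithBot ℕ∞) := h2
  have h4 : (2 : ℕ∞) ≤ P.height := WithBot.coe_le_coe.mp h3
  exact absurd (h4.trans h) (by norm_num)

variable (hdim : ∀ (m' : Ideal ↥(integralClosure A (FractionRing A))) [m'.IsMaximal],
      m'.comap (algebraMap A ↥(integralClosure A (FractionRing A))) = IsLocalRing.maximalIdeal A →
        2 ≤ ringKrullDim (Localization.AtPrime m'))
include hdim

/-- the maximal ideal contains a nonzerodivisor -/
theorem exists_nonZeroDivisor_mem_maximalIdeal :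
    ∃ f ∈ maximalIdeal A, f ∈ nonZeroDivisors A := by
  classical
  haveI : Fintype (minimalPrimes A) := (minimalPrimes.finite_of_isNoetherianRing A).fintype
  by_contra hcon
  push_neg at hcon
  have hsub : ((maximalIdeal A : Ideal A) : Set A) ⊆
      ⋃ 𝔮 ∈ ((Finset.univ : Finset (minimalPrimes A)) : Set (minimalPrimes A)),
        ((𝔮 : Ideal A) : Set A) := by
    intro f hf
    have h1 := hcon f hf
    have h2 : ¬ ∀ 𝔭 : minimalPrimes A, f ∉ (𝔭 : Ideal A) :=
      fun h => h1 (mem_nonZeroDivisors_of_forall_notMem f h)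
    push_neg at h2
    obtain ⟨𝔭, h𝔭⟩ := h2
    exact Set.mem_biUnion (Finset.mem_coe.mpr (Finset.mem_univ 𝔭)) h𝔭
  have hne : Nonempty (minimalPrimes A) := by
    obtain ⟨p, hp⟩ := Ideal.nonempty_minimalPrimes (I := (⊥ : Ideal A))
      (fun h => (bot_ne_top : (⊥ : Ideal A) ≠ ⊤) h)
    exact ⟨⟨p, hp⟩⟩
  obtain ⟨𝔭₀⟩ := hne
  obtain ⟨𝔮, -, hle⟩ := (Ideal.subset_union_prime (s := Finset.univ)
    (f := fun 𝔮 : minimalPrimes A => (𝔮 : Ideal A)) 𝔭₀ 𝔭₀
    (fun 𝔮 _ _ _ => inferInstance)).mp hsub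
  have hm𝔮 : maximalIdeal A = (𝔮 : Ideal A) :=
    (maximalIdeal.isMaximal A).eq_of_le (Ideal.IsPrime.ne_top inferInstance) hle
  -- a prime of `A'` over `m`
  obtain ⟨m', -, hm'p, hm'c⟩ := Ideal.exists_ideal_over_prime_of_isIntegral (maximalIdeal A)
    (⊥ : Ideal A') (by
      rw [← RingHom.ker_eq_comap_bot, (RingHom.injective_iff_ker_eq_bot _).mp
        algebraMap_A'_injective]
      exact bot_le)
  haveI := hm'p
  haveI hmax : m'.IsMaximal := Ideal.isMaximal_of_isIntegral_of_isMaximal_comap m' (by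
    rw [hm'c]; infer_instance)
  have h2 := hdim m' hm'c
  have hh : m'.height ≤ 1 := by
    have : m'.height ≤ ((0 : ℕ) : ℕ∞) := by
      rw [Ideal.height_le_iff]
      intro P₁ hP₁ hlt
      exfalso
      haveI := hP₁
      have h3 := Ideal.IsIntegral.comap_lt_comap (R := A) hlt
      rw [hm'c, hm𝔮] at h3
      have h4 : (𝔮 : Ideal A) ≤ P₁.comap (algebraMap A A') :=
        𝔮.2.2 ⟨Ideal.comap_isPrime _ _, bot_le⟩ h3.le
      exact absurd h4 (not_le_of_gt h3)
    exact this.trans (by norm_num)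
  exact height_cast_lt_two m' hh h2

/-- **Core**: an element of `K` with `m`-primary conductor is integral. -/
theorem isIntegral_of_pow_mul_mem (x : K) (N : ℕ)
    (hN : ∀ a ∈ maximalIdeal A ^ N, ∃ b : A, algebraMap A K a * x = algebraMap A K b) :
    IsIntegral A x := by
  apply isIntegral_of_forall_piq
  intro 𝔭
  by_contra hxb
  have hxb' : ¬ IsIntegral (A ⧸ (𝔭 : Ideal A)) (piq 𝔭 x) := fun h => hxb (isIntegral_trans _ h)
  obtain ⟨Pb, hPbp, hPb1, hkey⟩ :=
    exists_heightOne_prime_of_not_isIntegral (A := A ⧸ (𝔭 : Ideal A)) (piq 𝔭 x) hxb'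
  haveI := hPbp
  set m' : Ideal A' := Pb.comap (theta 𝔭).toRingHom with hm'
  haveI : m'.IsPrime := Ideal.comap_isPrime _ _
  have hh : m'.height ≤ 1 := height_comap_theta_le_one Pb hPb1.le
  have hle : maximalIdeal A ^ N ≤ m'.comap (algebraMap A A') := by
    intro a ha
    obtain ⟨b, hb⟩ := hN a ha
    change theta 𝔭 (algebraMap A A' a) ∈ Pb
    apply hkey
    have h1 : ((theta 𝔭 (algebraMap A A' a) : integralClosure (A ⧸ (𝔭 : Ideal A)) (Kb 𝔭)) : Kb 𝔭)
        * piq 𝔭 x = algebraMap (A ⧸ (𝔭 : Ideal A)) (Kb 𝔭) (Ideal.Quotient.mk _ b) := by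
      rw [theta_coe]
      change piq 𝔭 (algebraMap A K a) * piq 𝔭 x = algebraMap A (Kb 𝔭) b
      rw [← map_mul, hb, AlgHom.commutes]
    rw [h1]
    exact isIntegral_algebraMap
  have hle' : maximalIdeal A ≤ m'.comap (algebraMap A A') :=
    Ideal.IsPrime.le_of_pow_le hle
  have hm'c : m'.comap (algebraMap A A') = maximalIdeal A :=
    ((maximalIdeal.isMaximal A).eq_of_le (Ideal.IsPrime.ne_top (Ideal.comap_isPrime _ _)) hle').symm
  haveI hmax : m'.IsMaximal := Ideal.isMaximal_of_isIntegral_of_isMaximal_comap m' (by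
    rw [hm'c]; infer_instance)
  exact height_cast_lt_two m' hh (hdim m' hm'c)

end Groth.Agent.Lib.Helper14.PuncSec
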