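import Groth.Agent.Lib.Helper14.PuncSec.Red
import Groth.Agent.Lib.Helper14.MoriNagata.IntExt

/-!
# The idempotent of a component and the projection of integral closures
-/

set_option autoImplicit false
set_option linter.style.haveILetI false

universe u
open Polynomial

namespace Groth.Agent.Lib.Helper14.PuncSec

open Groth.Agent.Lib.Helper14.MoriNagata

variable {A : Type u} [CommRing A] [IsReduced A] [IsNoetherianRing A]

local notation "K" => FractionRing A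
local notation "A'" => integralClosure A (FractionRing A)

theorem exists_avoid₁ (𝔭 : minimalPrimes A) :
    ∃ a : A, a ∉ (𝔭 : Ideal A) ∧ ∀ 𝔮 : minimalPrimes A, 𝔮 ≠ 𝔭 → a ∈ (𝔮 : Ideal A) := by
  classical
  haveI : Fintype (minimalPrimes A) := (minimalPrimes.finite_of_isNoetherianRing A).fintype
  by_contra hcon
  push_neg at hcon
  let s : Finset (minimalPrimes A) := Finset.univ.erase 𝔭
  have hle : s.inf (fun 𝔮 => (𝔮 : Ideal A)) ≤ (𝔭 : Ideal A) := by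
    intro a ha
    by_contra hap
    obtain ⟨𝔮, h𝔮, ha𝔮⟩ := hcon a hap
    exact ha𝔮 ((Submodule.mem_finsetInf.mp ha) 𝔮 (Finset.mem_erase.mpr ⟨h𝔮, Finset.mem_univ _⟩))
  obtain ⟨𝔮, h𝔮s, h𝔮le⟩ := (Ideal.IsPrime.inf_le' inferInstance).mp hle
  have : (𝔭 : Ideal A) ≤ 𝔮 := 𝔭.2.2 ⟨inferInstance, bot_le⟩ h𝔮le
  exact (Finset.mem_erase.mp h𝔮s).1 (Subtype.ext (le_antisymm h𝔮le this))

theorem exists_avoid₂ (𝔭 : minimalPrimes A) :
    ∃ c : A, c ∈ (𝔭 : Ideal A) ∧ ∀ 𝔮 : minimalPrimes A, 𝔮 ≠ 𝔭 → c ∉ (𝔮 : Ideal A) := by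
  classical
  haveI : Fintype (minimalPrimes A) := (minimalPrimes.finite_of_isNoetherianRing A).fintype
  by_contra hcon
  push_neg at hcon
  let s : Finset (minimalPrimes A) := Finset.univ.erase 𝔭
  have hsub : (((𝔭 : Ideal A)) : Set A) ⊆ ⋃ 𝔮 ∈ (s : Set (minimalPrimes A)), ((𝔮 : Ideal A) : Set A) := by
    intro c hc
    obtain ⟨𝔮, h𝔮, hc𝔮⟩ := hcon c hc
    exact Set.mem_biUnion (Finset.mem_coe.mpr (Finset.mem_erase.mpr ⟨h𝔮, Finset.mem_univ _⟩)) hc𝔮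
  obtain ⟨𝔮, h𝔮s, hle⟩ := (Ideal.subset_union_prime (s := s) (f := fun 𝔮 => (𝔮 : Ideal A)) 𝔭 𝔭
    (fun 𝔮 _ _ _ => inferInstance)).mp hsub
  have : (𝔮 : Ideal A) ≤ 𝔭 := 𝔮.2.2 ⟨inferInstance, bot_le⟩ hle
  exact (Finset.mem_erase.mp h𝔮s).1 (Subtype.ext (le_antisymm this hle))

/-- splitting data for a minimal prime -/
structure SplitData (𝔭 : minimalPrimes A) where
  a : A
  c : A
  ha : a ∉ (𝔭 : Ideal A)
  ha' : ∀ 𝔮 : minimalPrimes A, 𝔮 ≠ 𝔭 → a ∈ (𝔮 : Ideal A)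
  hc : c ∈ (𝔭 : Ideal A)
  hc' : ∀ 𝔮 : minimalPrimes A, 𝔮 ≠ 𝔭 → c ∉ (𝔮 : Ideal A)

theorem nonempty_splitData (𝔭 : minimalPrimes A) : Nonempty (SplitData 𝔭) := by
  obtain ⟨a, ha, ha'⟩ := exists_avoid₁ 𝔭
  obtain ⟨c, hc, hc'⟩ := exists_avoid₂ 𝔭
  exact ⟨⟨a, c, ha, ha', hc, hc'⟩⟩

namespace SplitData

variable {𝔭 : minimalPrimes A} (D : SplitData 𝔭)

/-- `v * a + c` is a nonzerodivisor when `v ∉ 𝔭`. -/
theorem mem_nonZeroDivisors (v : A) (hv : v ∉ (𝔭 : Ideal A)) :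
    v * D.a + D.c ∈ nonZeroDivisors A := by
  apply mem_nonZeroDivisors_of_forall_notMem
  intro 𝔮 h
  by_cases h𝔮 : 𝔮 = 𝔭
  · subst h𝔮
    have h1 : v * D.a ∈ (𝔮 : Ideal A) := by
      have := Ideal.sub_mem _ h D.hc
      rwa [add_sub_cancel_right] at this
    rcases Ideal.IsPrime.mem_or_mem inferInstance h1 with h2 | h2
    · exact hv h2
    · exact D.ha h2
  · have h1 : D.c ∈ (𝔮 : Ideal A) := by
      have := Ideal.sub_mem _ h (Ideal.mul_mem_left _ v (D.ha' 𝔮 h𝔮))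
      rwa [add_sub_cancel_left] at this
    exact D.hc' 𝔮 h𝔮 h1

theorem d_mem : D.a + D.c ∈ nonZeroDivisors A := by
  have := D.mem_nonZeroDivisors 1 (fun h => (Ideal.IsPrime.ne_top inferInstance)
    ((Ideal.eq_top_iff_one _).mpr h))
  rwa [one_mul] at this

/-- the idempotent of the component `𝔭` -/
noncomputable def e : K := IsLocalization.mk' K D.a ⟨D.a + D.c, D.d_mem⟩

theorem e_spec : D.e * algebraMap A K (D.a + D.c) = algebraMap A K D.a :=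
  IsLocalization.mk'_spec K D.a ⟨D.a + D.c, D.d_mem⟩

theorem piq_e_self : piq 𝔭 D.e = 1 := by
  have h := piq_mul_eq 𝔭 D.e_spec
  have hc0 : algebraMap A (Kb 𝔭) D.c = 0 := (algebraMap_Kb_eq_zero_iff 𝔭 _).mpr D.hc
  have ha0 : algebraMap A (Kb 𝔭) D.a ≠ 0 := fun h0 => D.ha ((algebraMap_Kb_eq_zero_iff 𝔭 _).mp h0)
  rw [map_add, hc0, add_zero] at h
  exact mul_right_cancel₀ ha0 (h.trans (one_mul _).symm)

theorem piq_e_of_ne (𝔮 : minimalPrimes A) (h𝔮 : 𝔮 ≠ 𝔭) : piq 𝔮 D.e = 0 := by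
  have h := piq_mul_eq 𝔮 D.e_spec
  have ha0 : algebraMap A (Kb 𝔮) D.a = 0 := (algebraMap_Kb_eq_zero_iff 𝔮 _).mpr (D.ha' 𝔮 h𝔮)
  have hd0 : algebraMap A (Kb 𝔮) (D.a + D.c) ≠ 0 := fun h0 =>
    notMem_minimalPrime_of_mem_nonZeroDivisors 𝔮 D.d_mem ((algebraMap_Kb_eq_zero_iff 𝔮 _).mp h0)
  rw [ha0] at h
  exact (mul_eq_zero.mp h).resolve_right hd0

/-- an element of `K` vanishes iff its `𝔭`-component vanishes and it is killed by `e`... -/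
theorem eq_zero_of_piq_eq_zero_of_mul_e (z : K) (h : piq 𝔭 z = 0) : z * D.e = 0 := by
  apply eq_zero_of_forall_piq_eq_zero
  intro 𝔮
  rw [map_mul]
  by_cases h𝔮 : 𝔮 = 𝔭
  · subst h𝔮; rw [h, zero_mul]
  · rw [D.piq_e_of_ne 𝔮 h𝔮, mul_zero]

theorem e_mul_e : D.e * D.e = D.e := by
  have h : (D.e * D.e - D.e) = 0 := by
    apply eq_zero_of_forall_piq_eq_zero
    intro 𝔮
    rw [map_sub, map_mul]
    by_cases h𝔮 : 𝔮 = 𝔭
    · subst h𝔮; rw [D.piq_e_self]; ring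
    · rw [D.piq_e_of_ne 𝔮 h𝔮]; ring
  exact sub_eq_zero.mp h

theorem isIntegral_e : IsIntegral A D.e := by
  refine ⟨X * (X - C 1), monic_X.mul (monic_X_sub_C 1), ?_⟩
  change aeval D.e (X * (X - C 1) : A[X]) = 0
  rw [map_mul, map_sub, aeval_X, aeval_C, map_one, mul_sub, mul_one, D.e_mul_e, sub_self]

end SplitData

end Groth.Agent.Lib.Helper14.PuncSec
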