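import Groth.Agent.Lib.Helper14.MoriNagata.NagT

/-!
# The total ring of fractions of a reduced Noetherian ring: projections to the components
-/

set_option autoImplicit false
set_option linter.style.haveILetI false

universe u
open Polynomial

namespace Groth.Agent.Lib.Helper14.PuncSec

open Groth.Agent.Lib.Helper14.MoriNagata

variable {A : Type u} [CommRing A]

local notation "K" => FractionRing A

/-- fraction field of the component `A ⧸ 𝔭` -/
abbrev Kb (𝔭 : minimalPrimes A) : Type u := FractionRing (A ⧸ (𝔭 : Ideal A))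

theorem notMem_minimalPrime_of_mem_nonZeroDivisors (𝔭 : minimalPrimes A) {y : A}
    (hy : y ∈ nonZeroDivisors A) : y ∉ (𝔭 : Ideal A) := fun h =>
  Set.disjoint_left.mp (Ideal.disjoint_nonZeroDivisors_of_mem_minimalPrimes 𝔭.2) h hy

theorem algebraMap_Kb_eq_zero_iff (𝔭 : minimalPrimes A) (a : A) :
    algebraMap A (Kb 𝔭) a = 0 ↔ a ∈ (𝔭 : Ideal A) := by
  rw [IsScalarTower.algebraMap_apply A (A ⧸ (𝔭 : Ideal A)) (Kb 𝔭),
    map_eq_zero_iff _ (IsFractionRing.injective _ _), Ideal.Quotient.algebraMap_eq,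
    Ideal.Quotient.eq_zero_iff_mem]

theorem isUnit_algebraMap_Kb (𝔭 : minimalPrimes A) (y : nonZeroDivisors A) :
    IsUnit (algebraMap A (Kb 𝔭) y) := by
  apply IsUnit.mk0
  rw [Ne, algebraMap_Kb_eq_zero_iff]
  exact notMem_minimalPrime_of_mem_nonZeroDivisors 𝔭 y.2

/-- the projection `K → Frac (A ⧸ 𝔭)` -/
noncomputable def piq (𝔭 : minimalPrimes A) : K →ₐ[A] Kb 𝔭 :=
  IsLocalization.liftAlgHom (M := nonZeroDivisors A) (f := Algebra.ofId A (Kb 𝔭))
    (isUnit_algebraMap_Kb 𝔭)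

theorem piq_mul_eq (𝔭 : minimalPrimes A) {z : K} {u v : A}
    (h : z * algebraMap A K v = algebraMap A K u) :
    piq 𝔭 z * algebraMap A (Kb 𝔭) v = algebraMap A (Kb 𝔭) u := by
  have := congrArg (piq 𝔭) h
  rwa [map_mul, AlgHom.commutes, AlgHom.commutes] at this

variable [IsReduced A]

theorem eq_zero_of_forall_mem_minimalPrimes (u : A)
    (h : ∀ 𝔭 : minimalPrimes A, u ∈ (𝔭 : Ideal A)) : u = 0 := by
  have h1 : u ∈ (⊥ : Ideal A).radical := by
    rw [← Ideal.sInf_minimalPrimes, Ideal.mem_sInf]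
    intro 𝔭 h𝔭
    exact h ⟨𝔭, h𝔭⟩
  obtain ⟨n, hn⟩ := h1
  exact eq_zero_of_pow_eq_zero (Ideal.mem_bot.mp hn)

/-- joint injectivity of the projections -/
theorem eq_zero_of_forall_piq_eq_zero (z : K) (h : ∀ 𝔭 : minimalPrimes A, piq 𝔭 z = 0) :
    z = 0 := by
  obtain ⟨⟨u, v⟩, huv⟩ := IsLocalization.surj (nonZeroDivisors A) z
  have hu : u = 0 := by
    apply eq_zero_of_forall_mem_minimalPrimes
    intro 𝔭
    have := piq_mul_eq 𝔭 huv
    rw [h 𝔭, zero_mul] at this
    exact (algebraMap_Kb_eq_zero_iff 𝔭 u).mp this.symm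
  rw [hu, map_zero] at huv
  exact (IsLocalization.map_units K v).mul_left_eq_zero.mp huv

/-- an element avoiding all minimal primes is a nonzerodivisor -/
theorem mem_nonZeroDivisors_of_forall_notMem (d : A)
    (h : ∀ 𝔭 : minimalPrimes A, d ∉ (𝔭 : Ideal A)) : d ∈ nonZeroDivisors A := by
  rw [mem_nonZeroDivisors_iff_right]
  intro y hy
  apply eq_zero_of_forall_mem_minimalPrimes
  intro 𝔭
  have : y * d ∈ (𝔭 : Ideal A) := by rw [hy]; exact Ideal.zero_mem _
  rcases Ideal.IsPrime.mem_or_mem inferInstance this with h1 | h1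
  · exact h1
  · exact absurd h1 (h 𝔭)

variable [IsNoetherianRing A]

/-- **Fact 1**: integrality can be checked on the components. -/
theorem isIntegral_of_forall_piq (x : K) (h : ∀ 𝔭 : minimalPrimes A, IsIntegral A (piq 𝔭 x)) :
    IsIntegral A x := by
  classical
  haveI : Fintype (minimalPrimes A) := (minimalPrimes.finite_of_isNoetherianRing A).fintype
  choose p hpm hp using h
  refine ⟨∏ 𝔭 : minimalPrimes A, p 𝔭, monic_prod_of_monic _ _ (fun 𝔭 _ => hpm 𝔭), ?_⟩
  change aeval x (∏ 𝔭 : minimalPrimes A, p 𝔭) = 0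
  apply eq_zero_of_forall_piq_eq_zero
  intro 𝔮
  rw [← aeval_algHom_apply, map_prod]
  exact Finset.prod_eq_zero (Finset.mem_univ 𝔮) (hp 𝔮)

end Groth.Agent.Lib.Helper14.PuncSec
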