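import Groth.Agent.Lib.Helper14.PuncSec.Core

/-!
# The ring-level statement: an `A`-algebra `R` with the three facts embeds into `A'`
-/

set_option autoImplicit false
set_option linter.style.haveILetI false

universe u
open Polynomial IsLocalRing

namespace Groth.Agent.Lib.Helper14.PuncSec

open Groth.Agent.Lib.Helper14.MoriNagata

variable {A : Type u} [CommRing A] [IsReduced A] [IsNoetherianRing A] [IsLocalRing A]

local notation "K" => FractionRing A
local notation "A'" => integralClosure A (FractionRing A)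

theorem main_ring
    (hdim : ∀ (m' : Ideal ↥(integralClosure A (FractionRing A))) [m'.IsMaximal],
      m'.comap (algebraMap A ↥(integralClosure A (FractionRing A))) = IsLocalRing.maximalIdeal A →
        2 ≤ ringKrullDim (Localization.AtPrime m'))
    {R : Type*} [CommRing R] (ρ : A →+* R)
    (G1 : ∀ (s : R) (g : A), g ∈ maximalIdeal A → ∃ (k : ℕ) (b : A), ρ g ^ k * s = ρ b)
    (G2 : ∀ t : R, (∀ g ∈ maximalIdeal A, ∃ k : ℕ, ρ g ^ k * t = 0) → t = 0)
    (G3 : ∀ a : A, ρ a = 0 → ∀ g ∈ maximalIdeal A, ∃ k : ℕ, g ^ k * a = 0) :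
    ρ.IsIntegral ∧ ∃ φ : R →+* A', Function.Injective φ ∧ φ.comp ρ = algebraMap A A' := by
  obtain ⟨f, hfm, hfnzd⟩ := exists_nonZeroDivisor_mem_maximalIdeal hdim
  have hinjK : Function.Injective (algebraMap A K) :=
    IsLocalization.injective K (le_refl (nonZeroDivisors A))
  have hcancel : ∀ (k : ℕ) (a : A), f ^ k * a = 0 → a = 0 := by
    intro k a h
    have hk : f ^ k ∈ nonZeroDivisors A := (nonZeroDivisors A).pow_mem hfnzd k
    rw [mem_nonZeroDivisors_iff_right] at hk
    exact hk a (by rw [mul_comm]; exact h)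
  have hρinj : Function.Injective ρ := by
    rw [injective_iff_map_eq_zero]
    intro a ha
    obtain ⟨k, hk⟩ := G3 a ha f hfm
    exact hcancel k a hk
  have hreg : ∀ (s : R) (n : ℕ), ρ f ^ n * s = 0 → s = 0 := by
    intro s n hs
    apply G2
    intro g hg
    obtain ⟨k, b, hkb⟩ := G1 s g hg
    refine ⟨k, ?_⟩
    have h0 : ρ (f ^ n * b) = 0 := by
      rw [map_mul, map_pow, ← hkb]
      calc ρ f ^ n * (ρ g ^ k * s) = ρ g ^ k * (ρ f ^ n * s) := by ring
        _ = 0 := by rw [hs, mul_zero]
    have hb : b = 0 := hcancel n b (hρinj (h0.trans (map_zero ρ).symm))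
    rw [hkb, hb, map_zero]
  choose n b hnb using (fun s => G1 s f hfm)
  set F : K := algebraMap A K f with hFdef
  have hF : IsUnit F := IsLocalization.map_units K (⟨f, hfnzd⟩ : nonZeroDivisors A)
  obtain ⟨Finv, hFinv⟩ := hF.exists_right_inv
  let ψfun : R → K := fun s => algebraMap A K (b s) * Finv ^ (n s)
  have hψspec : ∀ s, ψfun s * F ^ (n s) = algebraMap A K (b s) := by
    intro s
    change algebraMap A K (b s) * Finv ^ (n s) * F ^ (n s) = _
    rw [mul_assoc, ← mul_pow, mul_comm Finv F, hFinv, one_pow, mul_one]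
  have key : ∀ (s : R) (k : ℕ) (c : A), ρ f ^ k * s = ρ c → ψfun s * F ^ k = algebraMap A K c := by
    intro s k c h
    have h1 : f ^ k * b s = f ^ (n s) * c := by
      apply hρinj
      rw [map_mul, map_mul, map_pow, map_pow, ← hnb s, ← h]
      ring
    have h2 : ψfun s * F ^ k * F ^ (n s) = algebraMap A K c * F ^ (n s) := by
      calc ψfun s * F ^ k * F ^ (n s) = (ψfun s * F ^ (n s)) * F ^ k := by ring
        _ = algebraMap A K (b s) * F ^ k := by rw [hψspec]
        _ = algebraMap A K (f ^ k * b s) := by rw [map_mul, map_pow]; ring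
        _ = algebraMap A K (f ^ (n s) * c) := by rw [h1]
        _ = algebraMap A K c * F ^ (n s) := by rw [map_mul, map_pow]; ring
    exact (hF.pow (n s)).mul_left_injective h2
  have uniq : ∀ (s : R) (z : K) (k : ℕ) (c : A), ρ f ^ k * s = ρ c →
      z * F ^ k = algebraMap A K c → ψfun s = z := by
    intro s z k c h hz
    exact (hF.pow k).mul_left_injective ((key s k c h).trans hz.symm)
  let ψ : R →+* K :=
    { toFun := ψfun
      map_one' := uniq 1 1 0 1 (by simp) (by simp)
      map_mul' := fun s t => uniq (s * t) (ψfun s * ψfun t) (n s + n t) (b s * b t)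
        (by rw [pow_add, map_mul, ← hnb s, ← hnb t]; ring)
        (by rw [pow_add, map_mul, ← hψspec s, ← hψspec t]; ring)
      map_zero' := uniq 0 0 0 0 (by simp) (by simp)
      map_add' := fun s t => uniq (s + t) (ψfun s + ψfun t) (n s + n t)
        (b s * f ^ (n t) + b t * f ^ (n s))
        (by rw [pow_add, map_add, map_mul, map_mul, map_pow, map_pow, ← hnb s, ← hnb t]; ring)
        (by rw [pow_add, map_add, map_mul, map_mul, map_pow, map_pow, ← hψspec s, ← hψspec t]
            ring) }
  have hψρ : ∀ a : A, ψ (ρ a) = algebraMap A K a := fun a =>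
    uniq (ρ a) (algebraMap A K a) 0 a (by simp) (by simp)
  have hψinj : ∀ s : R, ψ s = 0 → s = 0 := by
    intro s hs
    have h1 := hψspec s
    have h2 : ψfun s = 0 := hs
    rw [h2, zero_mul] at h1
    have hb : b s = 0 := hinjK (h1.symm.trans (map_zero _).symm)
    have h3 := hnb s
    rw [hb, map_zero] at h3
    exact hreg s (n s) h3
  have hcond : ∀ s : R, ∃ N : ℕ, ∀ a ∈ maximalIdeal A ^ N,
      ∃ c : A, algebraMap A K a * ψ s = algebraMap A K c := by
    intro s
    let I : Ideal A :=
      { carrier := {a | ∃ c : A, algebraMap A K a * ψ s = algebraMap A K c}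
        add_mem' := by
          rintro a a' ⟨c, hc⟩ ⟨c', hc'⟩
          exact ⟨c + c', by rw [map_add, add_mul, hc, hc', map_add]⟩
        zero_mem' := ⟨0, by rw [map_zero, zero_mul]⟩
        smul_mem' := by
          rintro r a ⟨c, hc⟩
          exact ⟨r * c, by rw [smul_eq_mul, map_mul, mul_assoc, hc, map_mul]⟩ }
    have hrad : maximalIdeal A ≤ I.radical := by
      intro g hg
      obtain ⟨k, c, hkc⟩ := G1 s g hg
      refine ⟨k, c, ?_⟩
      have := congrArg ψ hkc
      rwa [map_mul, map_pow, hψρ, hψρ, ← map_pow] at this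
    obtain ⟨N, hN⟩ := Ideal.exists_pow_le_of_le_radical_of_fg hrad (IsNoetherian.noetherian _)
    exact ⟨N, fun a ha => hN ha⟩
  have hint : ∀ s : R, IsIntegral A (ψ s) := by
    intro s
    obtain ⟨N, hN⟩ := hcond s
    exact isIntegral_of_pow_mul_mem hdim (ψ s) N hN
  let φ : R →+* A' :=
    { toFun := fun s => ⟨ψ s, hint s⟩
      map_one' := Subtype.ext (map_one ψ)
      map_mul' := fun s t => Subtype.ext (map_mul ψ s t)
      map_zero' := Subtype.ext (map_zero ψ)
      map_add' := fun s t => Subtype.ext (map_add ψ s t) }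
  have hφinj : Function.Injective φ := by
    rw [injective_iff_map_eq_zero]
    intro s hs
    exact hψinj s (congrArg Subtype.val hs)
  have hφρ : φ.comp ρ = algebraMap A A' := by
    ext a
    exact hψρ a
  refine ⟨?_, φ, hφinj, hφρ⟩
  intro s
  obtain ⟨p, hpm, hp⟩ : IsIntegral A (φ s) := integralClosure.isIntegral (φ s)
  refine ⟨p, hpm, ?_⟩
  apply hφinj
  rw [map_zero, hom_eval₂, hφρ]
  exact hp

end Groth.Agent.Lib.Helper14.PuncSec
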