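import Mathlib
import Groth.Prelude.Def_FEt

/-!
# Sections of the structure sheaf over the punctured spectrum: three algebraic facts
-/

set_option autoImplicit false
set_option linter.style.haveILetI false

universe u
open CategoryTheory AlgebraicGeometry Opposite TopologicalSpace

namespace Groth.Agent.Lib.Helper14.PuncSec

variable (A : Type u) [CommRing A] [IsLocalRing A]

/-- the restriction map `A → Γ(Spec A, V)` -/
noncomputable def rho (V : (Spec (CommRingCat.of A)).Opens) :
    A →+* Γ(Spec (CommRingCat.of A), V) :=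
  ((Spec (CommRingCat.of A)).presheaf.map (homOfLE (le_top : V ≤ ⊤)).op).hom.comp
    (Scheme.ΓSpecIso (CommRingCat.of A)).inv.hom

variable {A}

/-- the global function attached to `a : A` -/
noncomputable abbrev gl : A →+* Γ(Spec (CommRingCat.of A), ⊤) :=
  (Scheme.ΓSpecIso (CommRingCat.of A)).inv.hom

theorem rho_apply (V : (Spec (CommRingCat.of A)).Opens) (a : A) :
    rho A V a = (Spec (CommRingCat.of A)).presheaf.map (homOfLE (le_top : V ≤ ⊤)).op (gl a) := rfl

theorem res_rho {V W : (Spec (CommRingCat.of A)).Opens} (h : W ≤ V) (a : A) :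
    (Spec (CommRingCat.of A)).presheaf.map (homOfLE h).op (rho A V a) = rho A W a := by
  rw [rho_apply, rho_apply, ← CommRingCat.comp_apply, ← Functor.map_comp]
  rfl

theorem gl_eq_zero_iff (a : A) : gl a = 0 ↔ a = 0 := by
  constructor
  · intro h
    have := congrArg (Scheme.ΓSpecIso (CommRingCat.of A)).hom.hom h
    rw [map_zero] at this
    rw [← this]
    change a = ((Scheme.ΓSpecIso (CommRingCat.of A)).inv ≫ (Scheme.ΓSpecIso (CommRingCat.of A)).hom).hom a
    rw [Iso.inv_hom_id]; rfl
  · rintro rfl; exact map_zero _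

theorem exists_gl (r : Γ(Spec (CommRingCat.of A), ⊤)) : ∃ a : A, gl a = r := by
  refine ⟨(Scheme.ΓSpecIso (CommRingCat.of A)).hom.hom r, ?_⟩
  change ((Scheme.ΓSpecIso (CommRingCat.of A)).hom ≫ (Scheme.ΓSpecIso (CommRingCat.of A)).inv).hom r = r
  rw [Iso.hom_inv_id]; rfl

theorem mem_basicOpen_gl_iff (g : A) (x : Spec (CommRingCat.of A)) :
    x ∈ (Spec (CommRingCat.of A)).basicOpen (gl g) ↔ g ∉ x.asIdeal := by
  have : (Spec (CommRingCat.of A)).basicOpen (gl g) = PrimeSpectrum.basicOpen g :=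
    basicOpen_eq_of_affine (R := CommRingCat.of A) g
  rw [this]
  rfl

theorem basicOpen_le_punctured (g : A) (hg : g ∈ IsLocalRing.maximalIdeal A) :
    (Spec (CommRingCat.of A)).basicOpen (gl g) ≤ FEt.puncturedSpec A := by
  intro x hx
  rw [mem_basicOpen_gl_iff] at hx
  show x ∈ ({IsLocalRing.closedPoint A}ᶜ : Set (PrimeSpectrum A))
  intro hxc
  have hxc' : (x : PrimeSpectrum A) = IsLocalRing.closedPoint A := hxc
  rw [hxc'] at hx
  exact hx hg

theorem exists_mem_basicOpen_of_mem_punctured (x : Spec (CommRingCat.of A))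
    (hx : x ∈ FEt.puncturedSpec A) :
    ∃ g ∈ IsLocalRing.maximalIdeal A, x ∈ (Spec (CommRingCat.of A)).basicOpen (gl g) := by
  have hx' : x ∉ ({IsLocalRing.closedPoint A} : Set (PrimeSpectrum A)) := hx
  have hne : x.asIdeal ≠ IsLocalRing.maximalIdeal A := by
    intro h
    apply hx'
    show (x : PrimeSpectrum A) = IsLocalRing.closedPoint A
    exact PrimeSpectrum.ext h
  have hle : x.asIdeal ≤ IsLocalRing.maximalIdeal A := IsLocalRing.le_maximalIdeal x.2.ne_top
  obtain ⟨g, hgm, hgx⟩ := SetLike.exists_of_lt (lt_of_le_of_ne hle hne)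
  exact ⟨g, hgm, (mem_basicOpen_gl_iff g x).mpr hgx⟩

/-- (G3) -/
theorem exists_pow_mul_eq_zero_of_rho_eq_zero (a : A) (ha : rho A (FEt.puncturedSpec A) a = 0)
    (g : A) (hg : g ∈ IsLocalRing.maximalIdeal A) : ∃ k : ℕ, g ^ k * a = 0 := by
  have hle := basicOpen_le_punctured g hg
  have h1 : rho A ((Spec (CommRingCat.of A)).basicOpen (gl g)) a = 0 := by
    rw [← res_rho hle, ha, map_zero]
  obtain ⟨n, hn⟩ := exists_pow_mul_eq_zero_of_res_basicOpen_eq_zero_of_isAffineOpen
    (Spec (CommRingCat.of A)) (isAffineOpen_top _) (gl a) (gl g) h1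
  refine ⟨n, ?_⟩
  rw [← gl_eq_zero_iff, map_mul, map_pow]
  exact hn

/-- (G2) -/
theorem eq_zero_of_forall_pow_mul_eq_zero (t : Γ(Spec (CommRingCat.of A), FEt.puncturedSpec A))
    (ht : ∀ g ∈ IsLocalRing.maximalIdeal A, ∃ k : ℕ,
      rho A (FEt.puncturedSpec A) g ^ k * t = 0) : t = 0 := by
  let ι := {g : A // g ∈ IsLocalRing.maximalIdeal A}
  let W : ι → (Spec (CommRingCat.of A)).Opens := fun g =>
    (Spec (CommRingCat.of A)).basicOpen (gl g.1)
  have hW : ∀ g : ι, W g ≤ FEt.puncturedSpec A := fun g => basicOpen_le_punctured g.1 g.2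
  refine TopCat.Sheaf.eq_of_locally_eq' (Spec (CommRingCat.of A)).sheaf W
    (FEt.puncturedSpec A) (fun g => homOfLE (hW g)) ?_ t 0 ?_
  · intro x hx
    obtain ⟨g, hg, hxg⟩ := exists_mem_basicOpen_of_mem_punctured x hx
    exact Opens.mem_iSup.2 ⟨⟨g, hg⟩, hxg⟩
  · intro g
    obtain ⟨k, hk⟩ := ht g.1 g.2
    have h1 := congrArg ((Spec (CommRingCat.of A)).presheaf.map (homOfLE (hW g)).op).hom hk
    rw [map_mul, map_pow, map_zero] at h1
    have h2 : ((Spec (CommRingCat.of A)).presheaf.map (homOfLE (hW g)).op).hom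
        (rho A (FEt.puncturedSpec A) g.1) = rho A (W g) g.1 := res_rho (hW g) g.1
    rw [h2] at h1
    have hu : IsUnit (rho A (W g) g.1) :=
      RingedSpace.isUnit_res_basicOpen (Spec (CommRingCat.of A)).toRingedSpace (gl g.1)
    have h3 := (hu.pow k).mul_right_eq_zero.mp h1
    change ((Spec (CommRingCat.of A)).presheaf.map (homOfLE (hW g)).op).hom t =
      ((Spec (CommRingCat.of A)).presheaf.map (homOfLE (hW g)).op).hom 0
    rw [h3, map_zero]

variable [IsNoetherianRing A]

/-- (G1) -/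
theorem exists_pow_mul_mem_range (s : Γ(Spec (CommRingCat.of A), FEt.puncturedSpec A))
    (g : A) (hg : g ∈ IsLocalRing.maximalIdeal A) :
    ∃ (k : ℕ) (b : A), rho A (FEt.puncturedSpec A) g ^ k * s = rho A (FEt.puncturedSpec A) b := by
  have hle := basicOpen_le_punctured g hg
  set D := (Spec (CommRingCat.of A)).basicOpen (gl g) with hD
  obtain ⟨n, y, hy⟩ := exists_eq_pow_mul_of_isAffineOpen (Spec (CommRingCat.of A)) ⊤
    (isAffineOpen_top _) (gl g) ((Spec (CommRingCat.of A)).presheaf.map (homOfLE hle).op s)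
  obtain ⟨b, rfl⟩ := exists_gl y
  let t : Γ(Spec (CommRingCat.of A), FEt.puncturedSpec A) :=
    rho A (FEt.puncturedSpec A) g ^ n * s - rho A (FEt.puncturedSpec A) b
  have ht : ((Spec (CommRingCat.of A)).presheaf.map (homOfLE hle).op).hom t = 0 := by
    change ((Spec (CommRingCat.of A)).presheaf.map (homOfLE hle).op).hom
      (rho A (FEt.puncturedSpec A) g ^ n * s - rho A (FEt.puncturedSpec A) b) = 0
    rw [map_sub, map_mul, map_pow]
    have h1 : ((Spec (CommRingCat.of A)).presheaf.map (homOfLE hle).op).hom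
        (rho A (FEt.puncturedSpec A) g) = rho A D g := res_rho hle g
    have h2 : ((Spec (CommRingCat.of A)).presheaf.map (homOfLE hle).op).hom
        (rho A (FEt.puncturedSpec A) b) = rho A D b := res_rho hle b
    rw [h1, h2, sub_eq_zero]
    exact hy.symm
  have hcpt : IsCompact (FEt.puncturedSpec A : Set (Spec (CommRingCat.of A))) := by
    haveI : NoetherianSpace (PrimeSpectrum A) := inferInstance
    exact NoetherianSpace.isCompact (α := PrimeSpectrum A) _
  have hbo : (Spec (CommRingCat.of A)).basicOpen (rho A (FEt.puncturedSpec A) g) ≤ D := by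
    rw [rho_apply, Scheme.basicOpen_res]
    exact inf_le_right
  have hbo' : (Spec (CommRingCat.of A)).basicOpen (rho A (FEt.puncturedSpec A) g) ≤
      FEt.puncturedSpec A := hbo.trans hle
  obtain ⟨m, hm⟩ := exists_pow_mul_eq_zero_of_res_basicOpen_eq_zero_of_isCompact
    (Spec (CommRingCat.of A)) hcpt t (rho A (FEt.puncturedSpec A) g) (by
      change ((Spec (CommRingCat.of A)).presheaf.map (homOfLE hbo').op).hom t = 0
      have : ((Spec (CommRingCat.of A)).presheaf.map (homOfLE hbo').op).hom t =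
          ((Spec (CommRingCat.of A)).presheaf.map (homOfLE hbo).op).hom
            (((Spec (CommRingCat.of A)).presheaf.map (homOfLE hle).op).hom t) := by
        rw [← CommRingCat.comp_apply, ← Functor.map_comp]
        rfl
      rw [this, ht, map_zero])
  refine ⟨m + n, g ^ m * b, ?_⟩
  have hm' : rho A (FEt.puncturedSpec A) g ^ m *
      (rho A (FEt.puncturedSpec A) g ^ n * s - rho A (FEt.puncturedSpec A) b) = 0 := hm
  rw [mul_sub, sub_eq_zero] at hm'
  rw [pow_add, mul_assoc, hm', map_mul, map_pow]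

end Groth.Agent.Lib.Helper14.PuncSec
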