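import Groth.Agent.Lib.Helper14.PuncSec.Idem

/-!
# The projection of integral closures `A' → (A ⧸ 𝔭)'` and heights
-/

set_option autoImplicit false
set_option linter.style.haveILetI false

universe u
open Polynomial

namespace Groth.Agent.Lib.Helper14.PuncSec

open Groth.Agent.Lib.Helper14.MoriNagata

variable {A : Type u} [CommRing A] [IsReduced A] [IsNoetherianRing A]

local notation "K" => FractionRing A
local notation "A'" => integralClosure A (FractionRing A)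

instance isIntegral_quot (𝔭 : minimalPrimes A) : Algebra.IsIntegral A (A ⧸ (𝔭 : Ideal A)) :=
  Algebra.IsIntegral.of_surjective (Ideal.Quotient.mkₐ A (𝔭 : Ideal A))
    (Ideal.Quotient.mkₐ_surjective A _)

/-- `A' → (A ⧸ 𝔭)'` -/
noncomputable def theta (𝔭 : minimalPrimes A) :
    A' →ₐ[A] integralClosure (A ⧸ (𝔭 : Ideal A)) (Kb 𝔭) where
  toFun z := ⟨piq 𝔭 (z : K), (z.2.map (piq 𝔭)).tower_top⟩
  map_one' := by apply Subtype.ext; simp
  map_mul' x y := by apply Subtype.ext; simp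
  map_zero' := by apply Subtype.ext; simp
  map_add' x y := by apply Subtype.ext; simp
  commutes' a := by
    apply Subtype.ext
    change piq 𝔭 (algebraMap A K a) = algebraMap A (Kb 𝔭) a
    exact (piq 𝔭).commutes a

theorem theta_coe (𝔭 : minimalPrimes A) (z : A') :
    ((theta 𝔭 z : integralClosure (A ⧸ (𝔭 : Ideal A)) (Kb 𝔭)) : Kb 𝔭) = piq 𝔭 (z : K) := rfl

variable {𝔭 : minimalPrimes A} (D : SplitData 𝔭)

/-- the idempotent as an element of `A'` -/
noncomputable def SplitData.e' : A' := ⟨D.e, D.isIntegral_e⟩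

theorem theta_e' : theta 𝔭 D.e' = 1 := by
  apply Subtype.ext
  change piq 𝔭 D.e = 1
  exact D.piq_e_self

theorem mul_e'_eq_zero_of_theta_eq_zero (z : A') (hz : theta 𝔭 z = 0) : z * D.e' = 0 := by
  apply Subtype.ext
  change (z : K) * D.e = 0
  apply D.eq_zero_of_piq_eq_zero_of_mul_e
  exact congrArg Subtype.val hz

include D in
theorem theta_surjective : Function.Surjective (theta 𝔭) := by
  intro wb
  obtain ⟨ub, vb, hvb, huv⟩ := IsFractionRing.div_surjective (A := A ⧸ (𝔭 : Ideal A)) (wb : Kb 𝔭)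
  obtain ⟨u, rfl⟩ := Ideal.Quotient.mk_surjective ub
  obtain ⟨v, rfl⟩ := Ideal.Quotient.mk_surjective vb
  have hv : v ∉ (𝔭 : Ideal A) := by
    intro h
    have : (Ideal.Quotient.mk (𝔭 : Ideal A)) v = 0 := Ideal.Quotient.eq_zero_iff_mem.mpr h
    exact nonZeroDivisors.ne_zero hvb this
  have hαu : algebraMap (A ⧸ (𝔭 : Ideal A)) (Kb 𝔭) (Ideal.Quotient.mk _ u) =
      algebraMap A (Kb 𝔭) u := rfl
  have hαv : algebraMap (A ⧸ (𝔭 : Ideal A)) (Kb 𝔭) (Ideal.Quotient.mk _ v) =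
      algebraMap A (Kb 𝔭) v := rfl
  rw [hαu, hαv] at huv
  have hv0 : algebraMap A (Kb 𝔭) v ≠ 0 := fun h0 => hv ((algebraMap_Kb_eq_zero_iff 𝔭 _).mp h0)
  have ha0 : algebraMap A (Kb 𝔭) D.a ≠ 0 := fun h0 => D.ha ((algebraMap_Kb_eq_zero_iff 𝔭 _).mp h0)
  have hc0 : algebraMap A (Kb 𝔭) D.c = 0 := (algebraMap_Kb_eq_zero_iff 𝔭 _).mpr D.hc
  let w₀ : K := IsLocalization.mk' K (u * D.a) ⟨v * D.a + D.c, D.mem_nonZeroDivisors v hv⟩
  have hw₀ : w₀ * algebraMap A K (v * D.a + D.c) = algebraMap A K (u * D.a) :=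
    IsLocalization.mk'_spec K (u * D.a) ⟨v * D.a + D.c, D.mem_nonZeroDivisors v hv⟩
  have hpw₀ : piq 𝔭 w₀ = (wb : Kb 𝔭) := by
    have h := piq_mul_eq 𝔭 hw₀
    rw [map_add, map_mul, map_mul, hc0, add_zero] at h
    rw [← huv, eq_div_iff hv0]
    have h' : (piq 𝔭 w₀ * algebraMap A (Kb 𝔭) v) * algebraMap A (Kb 𝔭) D.a =
        algebraMap A (Kb 𝔭) u * algebraMap A (Kb 𝔭) D.a := by
      rw [← h]; ring
    exact mul_right_cancel₀ ha0 h'
  let w : K := w₀ * D.e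
  have hpw : piq 𝔭 w = (wb : Kb 𝔭) := by
    change piq 𝔭 (w₀ * D.e) = _
    rw [map_mul, D.piq_e_self, mul_one, hpw₀]
  have hpw' : ∀ 𝔮 : minimalPrimes A, 𝔮 ≠ 𝔭 → piq 𝔮 w = 0 := by
    intro 𝔮 h𝔮
    change piq 𝔮 (w₀ * D.e) = _
    rw [map_mul, D.piq_e_of_ne 𝔮 h𝔮, mul_zero]
  have hwb : IsIntegral A (wb : Kb 𝔭) := isIntegral_trans _ wb.2
  obtain ⟨p, hpm, hp⟩ := hwb
  have hwint : IsIntegral A w := by
    refine ⟨X * p, monic_X.mul hpm, ?_⟩
    change aeval w (X * p) = 0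
    apply eq_zero_of_forall_piq_eq_zero
    intro 𝔮
    rw [← aeval_algHom_apply, map_mul, aeval_X]
    by_cases h𝔮 : 𝔮 = 𝔭
    · subst h𝔮
      rw [hpw]
      have : aeval (wb : Kb 𝔮) p = 0 := hp
      rw [this, mul_zero]
    · rw [hpw' 𝔮 h𝔮, zero_mul]
  refine ⟨⟨w, hwint⟩, ?_⟩
  apply Subtype.ext
  exact hpw

/-- **Heights**: a prime of height `≤ 1` of `(A ⧸ 𝔭)'` pulls back to a prime of height `≤ 1`. -/
theorem height_comap_theta_le_one
    (Pb : Ideal (integralClosure (A ⧸ (𝔭 : Ideal A)) (Kb 𝔭))) [Pb.IsPrime]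
    (hPb : Pb.height ≤ 1) : (Pb.comap (theta 𝔭).toRingHom).height ≤ 1 := by
  obtain ⟨D⟩ := nonempty_splitData 𝔭
  set m' := Pb.comap (theta 𝔭).toRingHom with hm'
  haveI : m'.IsPrime := Ideal.comap_isPrime _ _
  have hsurj : Function.Surjective (theta 𝔭).toRingHom := theta_surjective D
  have he' : D.e' ∉ m' := by
    intro h
    have h1 : theta 𝔭 D.e' ∈ Pb := h
    rw [theta_e'] at h1
    exact (Ideal.IsPrime.ne_top inferInstance) ((Ideal.eq_top_iff_one Pb).mpr h1)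
  -- primes inside `m'` contain the kernel
  have hK1 : ∀ P₁ : Ideal A', P₁.IsPrime → P₁ ≤ m' → RingHom.ker (theta 𝔭).toRingHom ≤ P₁ := by
    intro P₁ hP₁ hle z hz
    have h0 : z * D.e' = 0 := mul_e'_eq_zero_of_theta_eq_zero D z hz
    have h1 : z * D.e' ∈ P₁ := by rw [h0]; exact P₁.zero_mem
    rcases Ideal.IsPrime.mem_or_mem hP₁ h1 with h2 | h2
    · exact h2
    · exact absurd (hle h2) he'
  -- primes strictly inside `m'` are the kernel
  have hK2 : ∀ P₁ : Ideal A', P₁.IsPrime → P₁ < m' → P₁ = RingHom.ker (theta 𝔭).toRingHom := by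
    intro P₁ hP₁ hlt
    haveI := hP₁
    have hker := hK1 P₁ hP₁ hlt.le
    haveI : (P₁.map (theta 𝔭).toRingHom).IsPrime := Ideal.map_isPrime_of_surjective hsurj hker
    have hcm : (P₁.map (theta 𝔭).toRingHom).comap (theta 𝔭).toRingHom = P₁ := by
      rw [Ideal.comap_map_of_surjective _ hsurj, ← RingHom.ker_eq_comap_bot, sup_eq_left.mpr hker]
    have hle : P₁.map (theta 𝔭).toRingHom ≤ Pb := Ideal.map_le_iff_le_comap.mpr hlt.le
    have hne : P₁.map (theta 𝔭).toRingHom ≠ Pb := by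
      intro h
      rw [h] at hcm
      exact hlt.ne hcm.symm
    have hbot : P₁.map (theta 𝔭).toRingHom = ⊥ :=
      eq_bot_of_lt_of_height_le_one hPb (lt_of_le_of_ne hle hne)
    rw [← hcm, hbot, RingHom.ker_eq_comap_bot]
  have : m'.height ≤ ((1 : ℕ) : ℕ∞) := by
    rw [Ideal.height_le_iff]
    intro P₁ hP₁ hlt
    haveI := hP₁
    have h0 : P₁.height ≤ ((0 : ℕ) : ℕ∞) := by
      rw [Ideal.height_le_iff]
      intro P₀ hP₀ hlt₀
      exfalso
      have h1 := hK2 P₀ hP₀ (hlt₀.trans hlt)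
      have h2 := hK2 P₁ hP₁ hlt
      exact hlt₀.ne (h1.trans h2.symm)
    exact lt_of_le_of_lt h0 (by norm_num)
  simpa using this

end Groth.Agent.Lib.Helper14.PuncSec
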